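import Groth.Prelude.Def_SGA3x
import Groth.Agent.Sga3B.DSPts
import Mathlib.RingTheory.Polynomial.Cyclotomic.Roots
import Mathlib.RingTheory.AdjoinRoot
import Mathlib.RingTheory.Flat.FaithfullyFlat.Basic
import Mathlib.AlgebraicGeometry.ResidueField

/-!
# The `n`-torsion of a split torus becomes constant after a finite free base change
(`S4117`, part (C)).  `B' = B[X]/Φ_n`.
-/

set_option autoImplicit false
universe u
open CategoryTheory MonoidalCategory CartesianMonoidalCategory MonObj GrpObj AlgebraicGeometry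
open CategoryTheory.Limits

namespace Groth.Agent.Sga3.H518.TorsSplit

open Groth.Agent.Sga3B.DSPts

/-! ### Characters of `ℤ^r` -/

lemma char_ext {M : Type*} [CommMonoid M] {r : ℕ} {f g : Multiplicative (Fin r → ℤ) →* M}
    (h : ∀ i, f (Multiplicative.ofAdd (Pi.single i 1)) = g (Multiplicative.ofAdd (Pi.single i 1))) :
    f = g := by
  apply (MonoidHom.toHomUnitsMulEquiv (G := Multiplicative (Fin r → ℤ)) (M := M)).injective
  have hu : ∀ i, f.toHomUnits (Multiplicative.ofAdd (Pi.single i 1)) =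
      g.toHomUnits (Multiplicative.ofAdd (Pi.single i 1)) := fun i => Units.ext (h i)
  change f.toHomUnits = g.toHomUnits
  apply (AddMonoidHom.toMultiplicativeLeft (α := Fin r → ℤ) (β := Mˣ)).symm.injective
  apply AddMonoidHom.functions_ext
  intro i x
  have hx : (Pi.single i x : Fin r → ℤ) = x • Pi.single i 1 := by
    rw [← Pi.single_smul]
    simp
  rw [hx, map_zsmul, map_zsmul]
  congr 1
  exact congrArg Additive.ofMul (hu i)

section char
variable {n : ℕ} {r : ℕ}

/-- The homomorphism `ZMod n → Rˣ` attached to a unit with `z ^ n = 1`. -/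
noncomputable def expHom {M : Type*} [CommGroup M] (z : M) (hz : z ^ n = 1) :
    ZMod n →+ Additive M :=
  ZMod.lift n ⟨(zmultiplesHom (Additive M)) (Additive.ofMul z), by
    simp [← ofMul_pow, hz]⟩

lemma expHom_natCast {M : Type*} [CommGroup M] (z : M) (hz : z ^ n = 1) (a : ℕ) :
    expHom z hz (a : ZMod n) = Additive.ofMul (z ^ a) := by
  have : ((a : ℕ) : ZMod n) = ((a : ℤ) : ZMod n) := by simp
  rw [this, expHom, ZMod.lift_coe]
  simp [ofMul_pow]

lemma expHom_map {M N : Type*} [CommGroup M] [CommGroup N] (φ : M →* N) (z : M) (hz : z ^ n = 1)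
    (a : ZMod n) :
    expHom (φ z) (by rw [← map_pow, hz, map_one]) a = Additive.ofMul (φ (Additive.toMul (expHom z hz a))) := by
  obtain ⟨a, rfl⟩ := ZMod.intCast_surjective a
  rw [expHom, expHom, ZMod.lift_coe, ZMod.lift_coe]
  simp [ofMul_zpow]

/-- the pairing `ℤ^r × (ℤ/n)^r → ℤ/n`. -/
def pair (m : Fin r → ℤ) (γ : Fin r → ZMod n) : ZMod n := ∑ i, (m i : ZMod n) * γ i

lemma pair_add (m m' : Fin r → ℤ) (γ : Fin r → ZMod n) : pair (m + m') γ = pair m γ + pair m' γ := by
  simp [pair, add_mul, Finset.sum_add_distrib]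

lemma pair_add_right (m : Fin r → ℤ) (γ γ' : Fin r → ZMod n) :
    pair m (γ + γ') = pair m γ + pair m γ' := by
  simp [pair, mul_add, Finset.sum_add_distrib]

lemma pair_zero (γ : Fin r → ZMod n) : pair (0 : Fin r → ℤ) γ = 0 := by simp [pair]

lemma pair_zero_right (m : Fin r → ℤ) : pair m (0 : Fin r → ZMod n) = 0 := by simp [pair]

lemma pair_single (i : Fin r) (γ : Fin r → ZMod n) : pair (Pi.single i 1) γ = γ i := by
  rw [pair, Finset.sum_eq_single i]
  · simp
  · intro j _ hj
    simp [Pi.single_eq_of_ne hj]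
  · simp

/-- The character `m ↦ z ^ (∑ mᵢ γᵢ)`. -/
noncomputable def chi {R : Type*} [CommMonoid R] (z : Rˣ) (hz : z ^ n = 1) (γ : Fin r → ZMod n) :
    Multiplicative (Fin r → ℤ) →* R where
  toFun m := ((Additive.toMul (expHom z hz (pair m.toAdd γ)) : Rˣ) : R)
  map_one' := by simp [pair_zero]
  map_mul' a b := by simp [pair_add]

lemma chi_apply {R : Type*} [CommMonoid R] (z : Rˣ) (hz : z ^ n = 1) (γ : Fin r → ZMod n)
    (m : Multiplicative (Fin r → ℤ)) :
    chi z hz γ m = ((Additive.toMul (expHom z hz (pair m.toAdd γ)) : Rˣ) : R) := rfl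

lemma chi_add {R : Type*} [CommMonoid R] (z : Rˣ) (hz : z ^ n = 1) (γ γ' : Fin r → ZMod n) :
    chi z hz (γ + γ') = chi z hz γ * chi z hz γ' := by
  ext m
  simp [chi_apply, pair_add_right]

lemma chi_zero {R : Type*} [CommMonoid R] (z : Rˣ) (hz : z ^ n = 1) :
    chi z hz (0 : Fin r → ZMod n) = 1 := by
  ext m
  simp [chi_apply, pair_zero_right]

lemma chi_single {R : Type*} [CommMonoid R] [NeZero n] (z : Rˣ) (hz : z ^ n = 1)
    (γ : Fin r → ZMod n) (i : Fin r) :
    chi z hz γ (Multiplicative.ofAdd (Pi.single i 1)) = (z : R) ^ (γ i).val := by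
  rw [chi_apply]
  have : pair (Multiplicative.toAdd (Multiplicative.ofAdd (Pi.single i (1 : ℤ)))) γ =
      (((γ i).val : ℕ) : ZMod n) := by
    rw [ZMod.natCast_zmod_val]
    exact pair_single i γ
  rw [this, expHom_natCast]
  simp

lemma chi_map {R R' : Type*} [CommMonoid R] [CommMonoid R'] (φ : R →* R') (z : Rˣ)
    (hz : z ^ n = 1) (γ : Fin r → ZMod n) (z' : R'ˣ) (hz' : z' ^ n = 1) (h : (z' : R') = φ z) :
    φ.comp (chi z hz γ) = chi z' hz' γ := by
  obtain rfl : z' = Units.map φ z := Units.ext h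
  refine MonoidHom.ext fun m => ?_
  rw [MonoidHom.comp_apply, chi_apply, chi_apply, expHom_map]
  rfl

end char

/-! ### The ring `B[X]/Φ_n` -/

section ring
variable (n : ℕ) (B : Type u) [CommRing B]

lemma root_pow : (AdjoinRoot.root (Polynomial.cyclotomic n B)) ^ n = 1 := by
  obtain ⟨q, hq⟩ := Polynomial.cyclotomic.dvd_X_pow_sub_one n B
  have h := congrArg (AdjoinRoot.mk (Polynomial.cyclotomic n B)) hq
  rw [map_mul, AdjoinRoot.mk_self, zero_mul, map_sub, map_pow, AdjoinRoot.mk_X, map_one,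
    sub_eq_zero] at h
  exact h

/-- In any field receiving `B[X]/Φ_n`, the root is a primitive `n`-th root of unity. -/
lemma isPrimitiveRoot (hB : IsUnit (n : B)) {K : Type*} [Field K]
    (φ : AdjoinRoot (Polynomial.cyclotomic n B) →+* K) :
    IsPrimitiveRoot (φ (AdjoinRoot.root (Polynomial.cyclotomic n B))) n := by
  have hnK : (n : K) ≠ 0 := by
    have h1 : IsUnit ((φ.comp (algebraMap B _)) (n : B)) := hB.map _
    rw [map_natCast] at h1
    exact h1.ne_zero
  have : NeZero (n : K) := ⟨hnK⟩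
  rw [← Polynomial.isRoot_cyclotomic_iff, Polynomial.IsRoot.def]
  have h2 : Polynomial.cyclotomic n K =
      (Polynomial.cyclotomic n B).map (φ.comp (AdjoinRoot.of (Polynomial.cyclotomic n B))) :=
    (Polynomial.map_cyclotomic n _).symm
  rw [h2, Polynomial.eval_map, ← Polynomial.hom_eval₂, AdjoinRoot.eval₂_root, map_zero]

lemma faithfullyFlat (hn : 0 < n) :
    Module.FaithfullyFlat B (AdjoinRoot (Polynomial.cyclotomic n B)) := by
  have hm := Polynomial.cyclotomic.monic n B
  cases subsingleton_or_nontrivial B with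
  | inl h =>
    have : Subsingleton (AdjoinRoot (Polynomial.cyclotomic n B)) :=
      (AdjoinRoot.mk_surjective (g := Polynomial.cyclotomic n B)).subsingleton
    have : Module.Free B (AdjoinRoot (Polynomial.cyclotomic n B)) := hm.free_adjoinRoot
    exact { submodule_ne_top := fun m hm' => absurd (Subsingleton.elim _ _) hm'.ne_top }
  | inr h =>
    have hd : 0 < (Polynomial.cyclotomic n B).natDegree := by
      rw [Polynomial.natDegree_cyclotomic]
      exact Nat.totient_pos.2 hn
    have : Nonempty (Fin (AdjoinRoot.powerBasis' hm).dim) := ⟨⟨0, by simpa using! hd⟩⟩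
    exact Module.FaithfullyFlat.of_linearEquiv _ _ (AdjoinRoot.powerBasis' hm).basis.repr

end ring

/-! ### Points -/

section pts
variable {B' : Type u} [CommRing B']

/-- The structure ring homomorphism `B' → Γ(X)`. -/
noncomputable def sec (X : Over (Spec (CommRingCat.of B'))) : B' →+* Γ(X.left, ⊤) :=
  X.hom.appTop.hom.comp (Scheme.ΓSpecIso (CommRingCat.of B')).inv.hom

lemma sec_comp {X Y : Over (Spec (CommRingCat.of B'))} (f : X ⟶ Y) (b : B') :
    f.left.appTop.hom (sec Y b) = sec X b := by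
  have h : Y.hom.appTop ≫ f.left.appTop = X.hom.appTop := by
    rw [← Scheme.Hom.comp_appTop, Over.w f]
  have h2 := congrArg (fun k => k.hom ((Scheme.ΓSpecIso (CommRingCat.of B')).inv.hom b)) h
  simpa [sec] using! h2

variable {n : ℕ} (ζ : B'ˣ) (hζ : ζ ^ n = 1)

include hζ in
lemma map_pow_eq (X : Over (Spec (CommRingCat.of B'))) :
    (Units.map (sec X : B' →* Γ(X.left, ⊤)) ζ) ^ n = 1 := by
  rw [← map_pow, hζ, map_one]

/-- The `X`-valued point of the torus attached to `γ`. -/
noncomputable def pt {r : ℕ} (X : Over (Spec (CommRingCat.of B'))) (γ : Fin r → ZMod n) :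
    X ⟶ Red.DS (Spec (CommRingCat.of B')) (Fin r → ℤ) :=
  dsEquiv X _ (chi (Units.map (sec X : B' →* Γ(X.left, ⊤)) ζ) (map_pow_eq ζ hζ X) γ)

lemma comp_pt {r : ℕ} {X Y : Over (Spec (CommRingCat.of B'))} (f : X ⟶ Y) (γ : Fin r → ZMod n) :
    f ≫ pt ζ hζ Y γ = pt ζ hζ X γ := by
  rw [pt, dsEquiv_naturality, pt]
  congr 1
  apply chi_map
  exact (sec_comp f (ζ : B')).symm

/-- The homomorphism `(ℤ/n)^r → DS(B')`. -/
noncomputable def psi (r : ℕ) : Multiplicative (Fin r → ZMod n) →*
    (𝟙_ (Over (Spec (CommRingCat.of B'))) ⟶ Red.DS (Spec (CommRingCat.of B')) (Fin r → ℤ)) where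
  toFun γ := pt ζ hζ _ γ.toAdd
  map_one' := by
    rw [pt, toAdd_one, chi_zero, map_one]
  map_mul' a b := by
    rw [pt, toAdd_mul, chi_add, map_mul]
    rfl

lemma toUnit_comp_psi {r : ℕ} (X : Over (Spec (CommRingCat.of B')))
    (γ : Multiplicative (Fin r → ZMod n)) :
    toUnit X ≫ psi ζ hζ r γ = pt ζ hζ X γ.toAdd :=
  comp_pt ζ hζ _ _

variable (hprim : ∀ (K : Type u) [Field K] (φ : B' →+* K), IsPrimitiveRoot (φ (ζ : B')) n)

include hprim in
lemma eq_one_of_comp_psi {r : ℕ} [NeZero n] (X : Over (Spec (CommRingCat.of B'))) [Nonempty X.left]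
    (γ : Multiplicative (Fin r → ZMod n)) (h : toUnit X ≫ psi ζ hζ r γ = 1) : γ = 1 := by
  rw [toUnit_comp_psi, pt] at h
  have h1 : chi (Units.map (sec X : B' →* Γ(X.left, ⊤)) ζ) (map_pow_eq ζ hζ X) γ.toAdd = 1 := by
    apply (dsEquiv X (Fin r → ℤ)).injective
    rw [h, map_one]
  obtain ⟨x⟩ := (inferInstance : Nonempty X.left)
  have h2 : ∀ i, γ.toAdd i = 0 := by
    intro i
    have h3 := congrArg (fun χ => χ (Multiplicative.ofAdd (Pi.single i 1))) h1
    rw [chi_single, MonoidHom.one_apply] at h3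
    have h4 := congrArg (X.left.Γevaluation x).hom h3
    rw [map_pow, map_one] at h4
    have h5 := (hprim (X.left.residueField x) ((X.left.Γevaluation x).hom.comp (sec X))).dvd_of_pow_eq_one
      ((γ.toAdd i).val) h4
    rw [← ZMod.val_eq_zero]
    exact Nat.eq_zero_of_dvd_of_lt h5 (ZMod.val_lt _)
  apply Multiplicative.toAdd.injective
  funext i
  exact h2 i

include hprim in
lemma exists_open {r : ℕ} [NeZero n] (hn : IsUnit (n : B')) (X : Over (Spec (CommRingCat.of B')))
    (t : X ⟶ Red.DS _ (Fin r → ℤ)) (ht : t ^ n = 1) (x : X.left) :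
    ∃ (V : X.left.Opens) (γ : Multiplicative (Fin r → ZMod n)), x ∈ V ∧
      (Over.homMk V.ι rfl : Over.mk (V.ι ≫ X.hom) ⟶ X) ≫ t =
        toUnit (Over.mk (V.ι ≫ X.hom)) ≫ psi ζ hζ r γ := by
  set χ := dsChar t with hχ
  have hχn : χ ^ n = 1 := by
    apply (dsEquiv X (Fin r → ℤ)).injective
    rw [map_pow, map_one, hχ, dsEquiv_dsChar, ht]
  set u : Fin r → Γ(X.left, ⊤) := fun i => χ (Multiplicative.ofAdd (Pi.single i 1)) with hu
  have hun : ∀ i, u i ^ n = 1 := by
    intro i
    have := congrArg (fun χ => χ (Multiplicative.ofAdd (Pi.single i 1))) hχn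
    simpa using! this
  set z : Γ(X.left, ⊤) := sec X (ζ : B') with hz
  have hzn : z ^ n = 1 := by
    rw [hz, ← map_pow, ← Units.val_pow_eq_pow_val, hζ, Units.val_one, map_one]
  set ev := (X.left.Γevaluation x).hom with hev
  have hp : IsPrimitiveRoot (ev z) n := hprim (X.left.residueField x) (ev.comp (sec X))
  -- the exponents
  have hb : ∀ i, ∃ b < n, ev z ^ b = ev (u i) := fun i =>
    hp.eq_pow_of_pow_eq_one (by rw [← map_pow, hun, map_one])
  choose b hbn hb using hb
  set Sm : Fin r → Γ(X.left, ⊤) := fun i =>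
    ∑ j ∈ Finset.range n, (u i) ^ j * (z ^ b i) ^ (n - 1 - j) with hSm
  have hS1 : ∀ i, Sm i * (u i - z ^ b i) = 0 := by
    intro i
    rw [hSm]
    dsimp only
    rw [Commute.geom_sum₂_mul (Commute.all _ _), hun, ← pow_mul, mul_comm, pow_mul, hzn, one_pow,
      sub_self]
  have hnx : (n : X.left.residueField x) ≠ 0 := by
    have h1 : IsUnit ((ev.comp (sec X)) (n : B')) := hn.map _
    rw [map_natCast] at h1
    exact h1.ne_zero
  have hS2 : ∀ i, ev (Sm i) ≠ 0 := by
    intro i
    rw [hSm]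
    dsimp only
    rw [map_sum]
    have : ∀ j ∈ Finset.range n, ev (u i ^ j * (z ^ b i) ^ (n - 1 - j)) = ((ev z) ^ b i) ^ (n - 1) := by
      intro j hj
      rw [map_mul, map_pow, map_pow, map_pow, ← hb i, ← pow_add]
      congr 1
      have := Finset.mem_range.1 hj
      omega
    rw [Finset.sum_congr rfl this, Finset.sum_const, Finset.card_range, nsmul_eq_mul]
    refine mul_ne_zero hnx (pow_ne_zero _ (pow_ne_zero _ ?_))
    exact hp.ne_zero (NeZero.ne n)
  let f : Γ(X.left, ⊤) := ∏ i, Sm i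
  have hf : ev f ≠ 0 := by
    rw [map_prod]
    exact Finset.prod_ne_zero_iff.2 fun i _ => hS2 i
  let V : X.left.Opens := X.left.basicOpen f
  have hxV : x ∈ V := (Scheme.evaluation_ne_zero_iff_mem_basicOpen X.left x (U := ⊤) trivial f).1 hf
  refine ⟨V, Multiplicative.ofAdd fun i => (b i : ZMod n), hxV, ?_⟩
  rw [toUnit_comp_psi, pt, ← dsEquiv_dsChar t, dsEquiv_naturality]
  congr 1
  apply char_ext
  intro i
  rw [chi_single]
  have hval : ((Multiplicative.ofAdd fun i => (b i : ZMod n)).toAdd i).val = b i := by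
    simp [ZMod.val_natCast, Nat.mod_eq_of_lt (hbn i)]
  rw [hval]
  set j : Over.mk (V.ι ≫ X.hom) ⟶ X := Over.homMk V.ι rfl with hj
  have hz' : ((Units.map (sec (Over.mk (V.ι ≫ X.hom)) : B' →* _) ζ : Γ((Over.mk (V.ι ≫ X.hom)).left, ⊤)ˣ) :
      Γ((Over.mk (V.ι ≫ X.hom)).left, ⊤)) = j.left.appTop.hom z := (sec_comp j (ζ : B')).symm
  rw [hz', ← map_pow]
  change j.left.appTop.hom (u i) = j.left.appTop.hom (z ^ b i)
  -- `Sm i` is a unit on `V`
  have hfu : IsUnit (j.left.appTop.hom f) := by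
    have h1 : IsUnit ((X.left.presheaf.map (homOfLE (X.left.basicOpen_le f)).op).hom f) :=
      RingedSpace.isUnit_res_basicOpen X.left.toRingedSpace f
    have h2 : V.ι ''ᵁ ⊤ ≤ X.left.basicOpen f := by
      rw [Scheme.Opens.ι_image_top]
    have h3 := h1.map (X.left.presheaf.map (homOfLE h2).op).hom
    rw [← CommRingCat.comp_apply, ← Functor.map_comp] at h3
    have h4 : j.left.appTop = V.ι.appTop := rfl
    rw [h4, Scheme.Opens.ι_appTop]
    exact h3
  have hSu : IsUnit (j.left.appTop.hom (Sm i)) := by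
    rw [map_prod] at hfu
    exact isUnit_of_dvd_unit (Finset.dvd_prod_of_mem (fun x => j.left.appTop.hom (Sm x))
      (Finset.mem_univ i)) hfu
  have h0 : j.left.appTop.hom (Sm i) * (j.left.appTop.hom (u i) - j.left.appTop.hom (z ^ b i)) = 0 := by
    rw [← map_sub, ← map_mul, hS1, map_zero]
  exact sub_eq_zero.1 ((hSu.mul_right_eq_zero).1 h0)

end pts

theorem exists_torsion (r n : ℕ) (hn : 0 < n) (B : Type u) [CommRing B] (hB : IsUnit (n : B)) :
    ∃ (B' : Type u) (_ : CommRing B') (_ : Algebra B B') (_ : Module.Finite B B')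
      (_ : Module.Free B B') (_ : Module.FaithfullyFlat B B')
      (ψ : Multiplicative (Fin r → ZMod n) →*
        (𝟙_ (Over (Spec (CommRingCat.of B'))) ⟶ Red.DS (Spec (CommRingCat.of B')) (Fin r → ℤ))),
      (∀ (X : Over (Spec (CommRingCat.of B'))) (t : X ⟶ Red.DS _ (Fin r → ℤ)), t ^ n = 1 →
        ∀ x : X.left, ∃ (V : X.left.Opens) (γ : Multiplicative (Fin r → ZMod n)), x ∈ V ∧
          (Over.homMk V.ι rfl : Over.mk (V.ι ≫ X.hom) ⟶ X) ≫ t =
            toUnit (Over.mk (V.ι ≫ X.hom)) ≫ ψ γ) ∧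
      (∀ (X : Over (Spec (CommRingCat.of B'))) [Nonempty X.left]
        (γ : Multiplicative (Fin r → ZMod n)), toUnit X ≫ ψ γ = 1 → γ = 1) := by
  have : NeZero n := ⟨hn.ne'⟩
  have hm := Polynomial.cyclotomic.monic n B
  let ζ : (AdjoinRoot (Polynomial.cyclotomic n B))ˣ :=
    Units.ofPowEqOne _ n (root_pow n B) hn.ne'
  have hζ : ζ ^ n = 1 := Units.pow_ofPowEqOne (root_pow n B) hn.ne'
  have hprim : ∀ (K : Type u) [Field K] (φ : AdjoinRoot (Polynomial.cyclotomic n B) →+* K),
      IsPrimitiveRoot (φ (ζ : AdjoinRoot (Polynomial.cyclotomic n B))) n := fun K _ φ =>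
    isPrimitiveRoot n B hB φ
  have hn' : IsUnit (n : AdjoinRoot (Polynomial.cyclotomic n B)) := by
    have := hB.map (algebraMap B (AdjoinRoot (Polynomial.cyclotomic n B)))
    rwa [map_natCast] at this
  exact ⟨AdjoinRoot (Polynomial.cyclotomic n B), inferInstance, inferInstance,
    hm.finite_adjoinRoot, hm.free_adjoinRoot, faithfullyFlat n B hn, psi ζ hζ r,
    fun X t ht x => exists_open ζ hζ hprim hn' X t ht x,
    fun X _ γ h => eq_one_of_comp_psi ζ hζ hprim X γ h⟩

end Groth.Agent.Sga3.H518.TorsSplit
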